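import Mathlib
import Groth.Agent.Lib.Helper5.CA.FL3
import Groth.Agent.Lib.Helper1.LocalCriterion
import Groth.Agent.Lib.Helper1.FlatSource
import Groth.Agent.S0543

set_option autoImplicit false
universe u

open TensorProduct IsLocalRing

namespace Groth.Agent.H5.CFlat

variable (A B : Type u) [CommRing A] [CommRing B] [IsLocalRing A]
    [IsLocalRing B] [IsNoetherianRing A] [IsNoetherianRing B] [Algebra A B]
    [IsLocalHom (algebraMap A B)]
    (ψ : AdicCompletion (maximalIdeal A) A →+* AdicCompletion (maximalIdeal B) B)
    (hψ : ψ.comp (algebraMap A (AdicCompletion (maximalIdeal A) A)) =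
      (algebraMap B (AdicCompletion (maximalIdeal B) B)).comp (algebraMap A B))

include hψ in
theorem flat_of_psi_flat (h : ψ.Flat) : (algebraMap A B).Flat := by
  have h1 : (algebraMap A (AdicCompletion (maximalIdeal A) A)).Flat := by
    rw [RingHom.flat_algebraMap_iff]
    exact AdicCompletion.flat_of_isNoetherian _
  have h2 : (ψ.comp (algebraMap A (AdicCompletion (maximalIdeal A) A))).Flat := h1.comp h
  rw [hψ] at h2
  rw [RingHom.flat_algebraMap_iff]
  haveI : Module.Flat B (AdicCompletion (maximalIdeal B) B) :=
    AdicCompletion.flat_of_isNoetherian _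
  haveI : Module.FaithfullyFlat B (AdicCompletion (maximalIdeal B) B) :=
    Module.FaithfullyFlat.of_flat_of_isLocalHom
  haveI : Module.Flat A (AdicCompletion (maximalIdeal B) B) := by
    have h3 : (algebraMap A (AdicCompletion (maximalIdeal B) B)).Flat := h2
    rwa [RingHom.flat_algebraMap_iff] at h3
  exact Groth.Agent.H1.flat_of_flat_of_faithfullyFlat A B (AdicCompletion (maximalIdeal B) B)

include hψ in
theorem psi_flat_of_flat (h : (algebraMap A B).Flat) : ψ.Flat := by
  rw [RingHom.flat_algebraMap_iff] at h
  haveI : Module.Flat B (AdicCompletion (maximalIdeal B) B) :=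
    AdicCompletion.flat_of_isNoetherian _
  haveI : Module.Flat A (AdicCompletion (maximalIdeal B) B) :=
    Module.Flat.trans A B (AdicCompletion (maximalIdeal B) B)
  haveI : IsNoetherianRing (AdicCompletion (maximalIdeal A) A) := Groth.Agent.S0543.result A _
  haveI : IsNoetherianRing (AdicCompletion (maximalIdeal B) B) := Groth.Agent.S0543.result B _
  letI := ψ.toAlgebra
  haveI : IsScalarTower A (AdicCompletion (maximalIdeal A) A) (AdicCompletion (maximalIdeal B) B) :=
    IsScalarTower.of_algebraMap_eq (fun a => (RingHom.congr_fun hψ a).symm)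
  show Module.Flat (AdicCompletion (maximalIdeal A) A) (AdicCompletion (maximalIdeal B) B)
  have fgA : (maximalIdeal A).FG := Ideal.fg_of_isNoetherianRing _
  -- notation
  have hmax : maximalIdeal (AdicCompletion (maximalIdeal A) A) =
      (maximalIdeal A).map (algebraMap A (AdicCompletion (maximalIdeal A) A)) :=
    AdicCompletion.maximalIdeal_eq_map
  have hmaxB : maximalIdeal (AdicCompletion (maximalIdeal B) B) =
      (maximalIdeal B).map (algebraMap B (AdicCompletion (maximalIdeal B) B)) :=
    AdicCompletion.maximalIdeal_eq_map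
  refine Groth.Agent.H1.flat_of_forall_flat_quotient_pow (A := AdicCompletion (maximalIdeal A) A)
    (B := AdicCompletion (maximalIdeal B) B) (M := AdicCompletion (maximalIdeal B) B)
    (maximalIdeal (AdicCompletion (maximalIdeal A) A)) ?_ ?_
  · refine le_trans ?_ (IsLocalRing.maximalIdeal_le_jacobson ⊥)
    rw [hmax, Ideal.map_map]
    have : (algebraMap (AdicCompletion (maximalIdeal A) A) (AdicCompletion (maximalIdeal B) B)) = ψ :=
      rfl
    rw [this, hψ, ← Ideal.map_map, hmaxB]
    apply Ideal.map_mono
    exact ((IsLocalRing.local_hom_TFAE (algebraMap A B)).out 0 2).mp ‹_›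
  · intro n hn
    set A' := AdicCompletion (maximalIdeal A) A with hA'
    set B' := AdicCompletion (maximalIdeal B) B with hB'
    have hpow : maximalIdeal A' ^ n = ((maximalIdeal A) ^ n).map (algebraMap A A') := by
      rw [hmax, Ideal.map_pow]
    let f : A' ⊗[A] B' →ₗ[A'] B' := (LinearMap.id : B' →ₗ[A] B').liftBaseChange A'
    have hf : ∀ (a : A') (b : B'), f (a ⊗ₜ b) = a • b := fun a b => by
      simp [f]
    refine H5.FL.flat_quotient_of_lTensor_bijective (maximalIdeal A' ^ n) f
      (H5.FL.lTensor_quotient_bijective _ f ?_ ?_)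
    · intro y
      refine ⟨1 ⊗ₜ y, ?_⟩
      rw [hf, one_smul, sub_self]
      exact Submodule.zero_mem _
    · intro x hx
      -- Step 1
      have step1 : ∀ x : A' ⊗[A] B', ∃ b : B', x - 1 ⊗ₜ[A] b ∈
          (maximalIdeal A' ^ n) • (⊤ : Submodule A' (A' ⊗[A] B')) := by
        intro x
        induction x using TensorProduct.induction_on with
        | zero => exact ⟨0, by simp⟩
        | tmul a b =>
          obtain ⟨α, hα⟩ := AdicFS.exists_sub_mem (maximalIdeal A) fgA n a
          refine ⟨α • b, ?_⟩
          have : a ⊗ₜ[A] b - 1 ⊗ₜ[A] (α • b) = (a - algebraMap A A' α) • ((1 : A') ⊗ₜ[A] b) := by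
            rw [TensorProduct.smul_tmul', smul_eq_mul, mul_one, TensorProduct.sub_tmul,
              ← TensorProduct.smul_tmul, Algebra.smul_def, mul_one]
          rw [this]
          exact Submodule.smul_mem_smul (hpow ▸ hα) Submodule.mem_top
        | add x y hx hy =>
          obtain ⟨b1, h1⟩ := hx
          obtain ⟨b2, h2⟩ := hy
          refine ⟨b1 + b2, ?_⟩
          have : x + y - 1 ⊗ₜ[A] (b1 + b2) = (x - 1 ⊗ₜ[A] b1) + (y - 1 ⊗ₜ[A] b2) := by
            rw [TensorProduct.tmul_add]; abel
          rw [this]
          exact Submodule.add_mem _ h1 h2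
      obtain ⟨b, hb⟩ := step1 x
      -- Step 2
      have hfmap : ∀ z ∈ (maximalIdeal A' ^ n) • (⊤ : Submodule A' (A' ⊗[A] B')),
          f z ∈ (maximalIdeal A' ^ n) • (⊤ : Submodule A' B') := by
        intro z hz
        have : (maximalIdeal A' ^ n) • (⊤ : Submodule A' (A' ⊗[A] B')) ≤
            ((maximalIdeal A' ^ n) • (⊤ : Submodule A' B')).comap f := by
          rw [← Submodule.map_le_iff_le_comap, Submodule.map_smul'']
          exact Submodule.smul_mono le_rfl le_top
        exact this hz
      have hb2 : b ∈ (maximalIdeal A' ^ n) • (⊤ : Submodule A' B') := by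
        have h3 := hfmap _ hb
        rw [map_sub, hf, one_smul] at h3
        have := Submodule.sub_mem _ hx h3
        rwa [sub_sub_cancel] at this
      -- Step 3
      have hb3 : b ∈ ((maximalIdeal A) ^ n) • (⊤ : Submodule A B') := by
        rw [Ideal.smul_top_eq_map, Submodule.restrictScalars_mem] at hb2 ⊢
        rw [hpow, Ideal.map_map] at hb2
        have : (algebraMap A' B').comp (algebraMap A A') = algebraMap A B' := by
          rw [← IsScalarTower.algebraMap_eq]
        rwa [this] at hb2
      have step3 : ∀ b ∈ ((maximalIdeal A) ^ n) • (⊤ : Submodule A B'),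
          (1 : A') ⊗ₜ[A] b ∈ (maximalIdeal A' ^ n) • (⊤ : Submodule A' (A' ⊗[A] B')) := by
        intro b hb
        refine Submodule.smul_induction_on hb ?_ ?_
        · intro r hr b' _
          have : (1 : A') ⊗ₜ[A] (r • b') = (algebraMap A A' r) • ((1 : A') ⊗ₜ[A] b') := by
            rw [TensorProduct.smul_tmul', smul_eq_mul, mul_one, ← TensorProduct.smul_tmul,
              Algebra.smul_def, mul_one]
          rw [this]
          refine Submodule.smul_mem_smul ?_ Submodule.mem_top
          rw [hpow]
          exact Ideal.mem_map_of_mem _ hr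
        · intro x y hx hy
          rw [TensorProduct.tmul_add]
          exact Submodule.add_mem _ hx hy
      have := Submodule.add_mem _ hb (step3 b hb3)
      rwa [sub_add_cancel] at this

end Groth.Agent.H5.CFlat
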